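import Groth.Agent.ComodLib.Basic
import Groth.Agent.ComodLib.MatrixComod
import Groth.Prelude.Def_GLin
import Groth.Prelude.Def_ComodSub
import Mathlib.RingTheory.Localization.Away.Basic

/-!
# Comodule algebra structures: polynomial rings, subalgebras, localisations
-/

set_option autoImplicit false
set_option linter.style.haveILetI false

universe u v

open TensorProduct

namespace Groth.Agent.GLinThicken

variable {k : Type u} [Field k] {A : Type u} [CommRing A] [HopfAlgebra k A]

section OfHom

variable {R : Type u} [CommRing R] [Algebra k R]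

/-- The two axioms of a coaction by an algebra map. -/
structure IsCoactHom (c : R →ₐ[k] R ⊗[k] A) : Prop where
  coassoc : (Algebra.TensorProduct.assoc k k k R A A).toAlgHom.comp
      ((Algebra.TensorProduct.map c (AlgHom.id k A)).comp c) =
    (Algebra.TensorProduct.map (AlgHom.id k R) (Bialgebra.comulAlgHom k A)).comp c
  counit : (Algebra.TensorProduct.rid k k R).toAlgHom.comp
      ((Algebra.TensorProduct.map (AlgHom.id k R) (Bialgebra.counitAlgHom k A)).comp c) = AlgHom.id k R

/-- The comodule of a coaction by an algebra map. -/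
@[reducible] noncomputable def comodOfHom (c : R →ₐ[k] R ⊗[k] A) (h : IsCoactHom c) : HopfRep.Comod k A R where
  coact := c.toLinearMap
  coassoc := by
    ext x
    have h1 := AlgHom.congr_fun h.coassoc x
    exact h1
  counit_comp := by
    ext x
    have h1 := AlgHom.congr_fun h.counit x
    apply (TensorProduct.rid k R).injective
    show _ = TensorProduct.rid k R (x ⊗ₜ[k] (1 : k))
    rw [TensorProduct.rid_tmul, one_smul]
    exact h1

theorem isCoactAlg_comodOfHom (c : R →ₐ[k] R ⊗[k] A) (h : IsCoactHom c) :
    @GLin.IsCoactAlg k _ A _ _ R _ _ (comodOfHom c h) :=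
  @GLin.IsCoactAlg.mk k _ A _ _ R _ _ (comodOfHom c h) (map_one c) (map_mul c)

theorem isCoactHom_coactAlgHom [HopfRep.Comod k A R] [GLin.IsCoactAlg k A R] :
    IsCoactHom (GLin.coactAlgHom k A R) where
  coassoc := AlgHom.ext fun x =>
    LinearMap.congr_fun (HopfRep.Comod.coassoc (k := k) (A := A) (V := R)) x
  counit := AlgHom.ext fun x => by
    have h1 := congrArg (TensorProduct.rid k R)
      (LinearMap.congr_fun (HopfRep.Comod.counit_comp (k := k) (A := A) (V := R)) x)
    simp only [LinearMap.flip_apply, TensorProduct.mk_apply, TensorProduct.rid_tmul, one_smul] at h1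
    exact h1

/-- A coaction transported back along an injection. -/
theorem IsCoactHom.of_injective {T : Type u} [CommRing T] [Algebra k T] {c : R →ₐ[k] R ⊗[k] A}
    (h : IsCoactHom c) {d : T →ₐ[k] T ⊗[k] A} {i : T →ₐ[k] R} (hi : Function.Injective i)
    (hd : (Algebra.TensorProduct.map i (AlgHom.id k A)).comp d = c.comp i) : IsCoactHom d where
  coassoc := by
    refine AlgHom.ext fun x => ?_
    have hI : Function.Injective (Algebra.TensorProduct.map i (AlgHom.id k (A ⊗[k] A))) :=
      Module.Flat.rTensor_preserves_injective_linearMap (M := A ⊗[k] A) i.toLinearMap hi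
    apply hI
    have e1 : ∀ z : T ⊗[k] A, Algebra.TensorProduct.map i (AlgHom.id k (A ⊗[k] A))
        (Algebra.TensorProduct.assoc k k k T A A (Algebra.TensorProduct.map d (AlgHom.id k A) z)) =
        Algebra.TensorProduct.assoc k k k R A A (Algebra.TensorProduct.map c (AlgHom.id k A)
          (Algebra.TensorProduct.map i (AlgHom.id k A) z)) := by
      intro z
      induction z using TensorProduct.induction_on with
      | zero => simp
      | add p q hp hq => simp only [map_add, hp, hq]
      | tmul t a =>
        simp only [Algebra.TensorProduct.map_tmul, AlgHom.id_apply]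
        rw [show c (i t) = _ from (AlgHom.congr_fun hd t).symm, AlgHom.comp_apply]
        induction d t using TensorProduct.induction_on with
        | zero => simp
        | add p q hp hq => simp only [map_add, TensorProduct.add_tmul, hp, hq]
        | tmul t' b => simp
    have e2 : ∀ z : T ⊗[k] A, Algebra.TensorProduct.map i (AlgHom.id k (A ⊗[k] A))
        (Algebra.TensorProduct.map (AlgHom.id k T) (Bialgebra.comulAlgHom k A) z) =
        Algebra.TensorProduct.map (AlgHom.id k R) (Bialgebra.comulAlgHom k A)
          (Algebra.TensorProduct.map i (AlgHom.id k A) z) := by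
      intro z
      induction z using TensorProduct.induction_on with
      | zero => simp
      | add p q hp hq => simp only [map_add, hp, hq]
      | tmul t a => simp
    show Algebra.TensorProduct.map i (AlgHom.id k (A ⊗[k] A))
        (Algebra.TensorProduct.assoc k k k T A A (Algebra.TensorProduct.map d (AlgHom.id k A) (d x))) =
      Algebra.TensorProduct.map i (AlgHom.id k (A ⊗[k] A))
        (Algebra.TensorProduct.map (AlgHom.id k T) (Bialgebra.comulAlgHom k A) (d x))
    rw [e1, e2, show Algebra.TensorProduct.map i (AlgHom.id k A) (d x) = c (i x) from AlgHom.congr_fun hd x]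
    exact AlgHom.congr_fun h.coassoc (i x)
  counit := by
    refine AlgHom.ext fun x => hi ?_
    have e : ∀ z : T ⊗[k] A, i (Algebra.TensorProduct.rid k k T
        (Algebra.TensorProduct.map (AlgHom.id k T) (Bialgebra.counitAlgHom k A) z)) =
        Algebra.TensorProduct.rid k k R (Algebra.TensorProduct.map (AlgHom.id k R) (Bialgebra.counitAlgHom k A)
          (Algebra.TensorProduct.map i (AlgHom.id k A) z)) := by
      intro z
      induction z using TensorProduct.induction_on with
      | zero => simp
      | add p q hp hq => simp only [map_add, hp, hq]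
      | tmul t a => simp [map_smul]
    show i (Algebra.TensorProduct.rid k k T
      (Algebra.TensorProduct.map (AlgHom.id k T) (Bialgebra.counitAlgHom k A) (d x))) = i x
    rw [e, show Algebra.TensorProduct.map i (AlgHom.id k A) (d x) = c (i x) from AlgHom.congr_fun hd x]
    exact AlgHom.congr_fun h.counit (i x)

/-- A coaction extends along a map out of which algebra maps are determined. -/
theorem IsCoactHom.of_epi {T : Type u} [CommRing T] [Algebra k T] {c : R →ₐ[k] R ⊗[k] A}
    (h : IsCoactHom c) {d : T →ₐ[k] T ⊗[k] A} {i : R →ₐ[k] T}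
    (hd : (Algebra.TensorProduct.map i (AlgHom.id k A)).comp c = d.comp i)
    (hepi : ∀ {Q : Type u} [CommRing Q] [Algebra k Q] (f g : T →ₐ[k] Q), f.comp i = g.comp i → f = g) :
    IsCoactHom d where
  coassoc := by
    refine hepi _ _ (AlgHom.ext fun x => ?_)
    have e1 : ∀ z : R ⊗[k] A, Algebra.TensorProduct.assoc k k k T A A (Algebra.TensorProduct.map d (AlgHom.id k A)
        (Algebra.TensorProduct.map i (AlgHom.id k A) z)) = Algebra.TensorProduct.map i (AlgHom.id k (A ⊗[k] A))
        (Algebra.TensorProduct.assoc k k k R A A (Algebra.TensorProduct.map c (AlgHom.id k A) z)) := by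
      intro z
      induction z using TensorProduct.induction_on with
      | zero => simp
      | add p q hp hq => simp only [map_add, hp, hq]
      | tmul t a =>
        simp only [Algebra.TensorProduct.map_tmul, AlgHom.id_apply]
        rw [show d (i t) = _ from (AlgHom.congr_fun hd t).symm, AlgHom.comp_apply]
        induction c t using TensorProduct.induction_on with
        | zero => simp
        | add p q hp hq => simp only [map_add, TensorProduct.add_tmul, hp, hq]
        | tmul t' b => simp
    have e2 : ∀ z : R ⊗[k] A, Algebra.TensorProduct.map (AlgHom.id k T) (Bialgebra.comulAlgHom k A)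
          (Algebra.TensorProduct.map i (AlgHom.id k A) z) = Algebra.TensorProduct.map i (AlgHom.id k (A ⊗[k] A))
        (Algebra.TensorProduct.map (AlgHom.id k R) (Bialgebra.comulAlgHom k A) z) := by
      intro z
      induction z using TensorProduct.induction_on with
      | zero => simp
      | add p q hp hq => simp only [map_add, hp, hq]
      | tmul t a => simp
    show Algebra.TensorProduct.assoc k k k T A A (Algebra.TensorProduct.map d (AlgHom.id k A) (d (i x))) =
      Algebra.TensorProduct.map (AlgHom.id k T) (Bialgebra.comulAlgHom k A) (d (i x))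
    rw [show d (i x) = Algebra.TensorProduct.map i (AlgHom.id k A) (c x) from (AlgHom.congr_fun hd x).symm, e1, e2]
    exact congrArg _ (AlgHom.congr_fun h.coassoc x)
  counit := by
    refine hepi _ _ (AlgHom.ext fun x => ?_)
    have e : ∀ z : R ⊗[k] A, Algebra.TensorProduct.rid k k T
        (Algebra.TensorProduct.map (AlgHom.id k T) (Bialgebra.counitAlgHom k A)
          (Algebra.TensorProduct.map i (AlgHom.id k A) z)) =
        i (Algebra.TensorProduct.rid k k R (Algebra.TensorProduct.map (AlgHom.id k R) (Bialgebra.counitAlgHom k A) z)) := by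
      intro z
      induction z using TensorProduct.induction_on with
      | zero => simp
      | add p q hp hq => simp only [map_add, hp, hq]
      | tmul t a => simp [map_smul]
    show Algebra.TensorProduct.rid k k T
      (Algebra.TensorProduct.map (AlgHom.id k T) (Bialgebra.counitAlgHom k A) (d (i x))) = i x
    rw [show d (i x) = Algebra.TensorProduct.map i (AlgHom.id k A) (c x) from (AlgHom.congr_fun hd x).symm, e]
    exact congrArg i (AlgHom.congr_fun h.counit x)

end OfHom

section Poly

variable {n : ℕ}

/-- The coaction on the polynomial ring of a comodule matrix. -/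
noncomputable def polyHom (M : Fin n → Fin n → A) :
    MvPolynomial (Fin n) k →ₐ[k] MvPolynomial (Fin n) k ⊗[k] A :=
  MvPolynomial.aeval fun i => ∑ j, MvPolynomial.X j ⊗ₜ[k] M j i

theorem isCoactHom_polyHom {M : Fin n → Fin n → A} (h : ComodLib.IsComodMatrix k M) :
    IsCoactHom (polyHom (k := k) M) where
  coassoc := by
    refine MvPolynomial.algHom_ext fun i => ?_
    simp only [AlgHom.comp_apply, polyHom, MvPolynomial.aeval_X, map_sum, Algebra.TensorProduct.map_tmul,
      AlgHom.id_apply, TensorProduct.sum_tmul, AlgEquiv.coe_toAlgHom, Algebra.TensorProduct.assoc_tmul,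
      Bialgebra.comulAlgHom_apply, h.comul, TensorProduct.tmul_sum]
    exact Finset.sum_comm
  counit := by
    refine MvPolynomial.algHom_ext fun i => ?_
    simp only [AlgHom.comp_apply, polyHom, MvPolynomial.aeval_X, map_sum, Algebra.TensorProduct.map_tmul,
      AlgHom.id_apply, AlgEquiv.coe_toAlgHom, Bialgebra.counitAlgHom_apply, h.counit,
      Algebra.TensorProduct.rid_tmul, ite_smul, one_smul, zero_smul]
    simp

/-- Evaluation at vectors transforming by the matrix is equivariant. -/
theorem map_aeval_polyHom {R : Type u} [CommRing R] [Algebra k R] (c : R →ₐ[k] R ⊗[k] A) (M : Fin n → Fin n → A)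
    (r : Fin n → R) (hr : ∀ i, c (r i) = ∑ j, r j ⊗ₜ[k] M j i) :
    c.comp (MvPolynomial.aeval r) =
      (Algebra.TensorProduct.map (MvPolynomial.aeval r) (AlgHom.id k A)).comp (polyHom M) := by
  refine MvPolynomial.algHom_ext fun i => ?_
  simp only [AlgHom.comp_apply, polyHom, MvPolynomial.aeval_X, hr, map_sum, Algebra.TensorProduct.map_tmul,
    AlgHom.id_apply]

end Poly

section Subalg

variable {R : Type u} [CommRing R] [Algebra k R]

/-- A subalgebra generated by elements whose coactions stay in it is stable. -/
theorem adjoin_stable (c : R →ₐ[k] R ⊗[k] A) (s : Set R)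
    (hs : ∀ x ∈ s, c x ∈ (Algebra.TensorProduct.map (Algebra.adjoin k s).val (AlgHom.id k A)).range) :
    ∀ x ∈ Algebra.adjoin k s, c x ∈ (Algebra.TensorProduct.map (Algebra.adjoin k s).val (AlgHom.id k A)).range :=
  fun _ hx => Algebra.adjoin_le
    (S := ((Algebra.TensorProduct.map (Algebra.adjoin k s).val (AlgHom.id k A)).range).comap c) hs hx

theorem injective_map_val (T : Subalgebra k R) :
    Function.Injective (Algebra.TensorProduct.map T.val (AlgHom.id k A)) :=
  Module.Flat.rTensor_preserves_injective_linearMap (M := A) T.val.toLinearMap Subtype.val_injective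

/-- The restricted coaction on a stable subalgebra. -/
noncomputable def subHom (c : R →ₐ[k] R ⊗[k] A) (T : Subalgebra k R)
    (hT : ∀ x ∈ T, c x ∈ (Algebra.TensorProduct.map T.val (AlgHom.id k A)).range) : T →ₐ[k] T ⊗[k] A :=
  (AlgEquiv.ofInjective _ (injective_map_val (A := A) T)).symm.toAlgHom.comp
    ((c.comp T.val).codRestrict _ fun x => hT x x.2)

theorem map_val_subHom (c : R →ₐ[k] R ⊗[k] A) (T : Subalgebra k R)
    (hT : ∀ x ∈ T, c x ∈ (Algebra.TensorProduct.map T.val (AlgHom.id k A)).range) :
    (Algebra.TensorProduct.map T.val (AlgHom.id k A)).comp (subHom c T hT) = c.comp T.val := by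
  refine AlgHom.ext fun x => ?_
  exact congrArg Subtype.val
    ((AlgEquiv.ofInjective _ (injective_map_val (A := A) T)).apply_symm_apply ⟨c x, hT x x.2⟩)

end Subalg

section Away

variable {R : Type u} [CommRing R] [Algebra k R]

theorem isUnit_map_algebraMap (c : R →ₐ[k] R ⊗[k] A) {h : R} (hh : c h = h ⊗ₜ[k] 1) :
    IsUnit (((Algebra.TensorProduct.map (IsScalarTower.toAlgHom k R (Localization.Away h)) (AlgHom.id k A)).comp c) h) := by
  rw [AlgHom.comp_apply, hh, Algebra.TensorProduct.map_tmul, map_one]
  exact (IsLocalization.Away.algebraMap_isUnit h).map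
    (Algebra.TensorProduct.includeLeft : Localization.Away h →ₐ[k] Localization.Away h ⊗[k] A)

/-- The coaction extended to the localisation at an invariant. -/
noncomputable def awayHom (c : R →ₐ[k] R ⊗[k] A) {h : R} (hh : c h = h ⊗ₜ[k] 1) :
    Localization.Away h →ₐ[k] Localization.Away h ⊗[k] A :=
  IsLocalization.Away.liftAlgHom h (isUnit_map_algebraMap c hh)

theorem awayHom_comp (c : R →ₐ[k] R ⊗[k] A) {h : R} (hh : c h = h ⊗ₜ[k] 1) :
    (Algebra.TensorProduct.map (IsScalarTower.toAlgHom k R (Localization.Away h)) (AlgHom.id k A)).comp c =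
      (awayHom c hh).comp (IsScalarTower.toAlgHom k R (Localization.Away h)) := by
  refine AlgHom.ext fun x => ?_
  simp [awayHom, IsLocalization.Away.lift_eq]

theorem away_algHom_ext {h : R} {Q : Type u} [CommRing Q] [Algebra k Q] (f g : Localization.Away h →ₐ[k] Q)
    (e : f.comp (IsScalarTower.toAlgHom k R (Localization.Away h)) = g.comp (IsScalarTower.toAlgHom k R _)) :
    f = g :=
  AlgHom.coe_ringHom_injective (IsLocalization.ringHom_ext (Submonoid.powers h)
    (congrArg AlgHom.toRingHom e))

theorem isCoactHom_awayHom {c : R →ₐ[k] R ⊗[k] A} (hc : IsCoactHom c) {h : R} (hh : c h = h ⊗ₜ[k] 1) :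
    IsCoactHom (awayHom c hh) :=
  hc.of_epi (awayHom_comp c hh) fun f g e => away_algHom_ext f g e

end Away

end Groth.Agent.GLinThicken
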