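import Groth.Agent.GLinThicken.Open
import Mathlib.RingTheory.ZariskisMainTheorem
import Mathlib.RingTheory.Polynomial.UniqueFactorization

/-!
# Equivariant normal thickening of a quasi-finite map
-/

set_option autoImplicit false
set_option linter.style.haveILetI false

universe u

open TensorProduct

namespace Groth.Agent.GLinThicken

/-- Quasi-finite at `q` as soon as the fibre of `q` is finite. -/
theorem quasiFiniteAt_of_finite_fibre {T P : Type u} [CommRing T] [CommRing P] [Algebra T P] [Algebra.FiniteType T P]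
    (q : PrimeSpectrum P)
    (hfin : (PrimeSpectrum.comap (algebraMap T P) ⁻¹' {PrimeSpectrum.comap (algebraMap T P) q}).Finite) :
    Algebra.QuasiFiniteAt T q.asIdeal := by
  let p : Ideal T := q.asIdeal.under T
  haveI : p.IsPrime := inferInstance
  haveI : q.asIdeal.LiesOver p := ⟨rfl⟩
  haveI : Finite (PrimeSpectrum (p.Fiber P)) :=
    (PrimeSpectrum.preimageEquivFiber T P ⟨p, inferInstance⟩).finite_iff.mp hfin
  haveI : Algebra.QuasiFinite p.ResidueField (p.Fiber P) :=
    Algebra.QuasiFinite.iff_finite_comap_preimage_singleton.mpr fun _ => Set.toFinite _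
  let q' := PrimeSpectrum.primesOverOrderIsoFiber T P p ⟨q.asIdeal, q.isPrime, inferInstance⟩
  haveI : Algebra.QuasiFiniteAt p.ResidueField q'.asIdeal := inferInstance
  haveI : Algebra.WeaklyQuasiFiniteAt T q.asIdeal :=
    Algebra.WeaklyQuasiFiniteAt.of_quasiFiniteAt_residueField p q.asIdeal q'.asIdeal
      congr($((PrimeSpectrum.primesOverOrderIsoFiber T P p).symm_apply_apply ⟨q.asIdeal, q.isPrime, inferInstance⟩).1)
  exact Algebra.QuasiFiniteAt.of_weaklyQuasiFiniteAt _

/-- The conclusion of the thickening theorem. -/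
def HasThickening (k A : Type u) [Field k] [CommRing A] [HopfAlgebra k A]
    {S : Type u} [CommRing S] [Algebra k S] [HopfRep.Comod k A S]
    {R : Type u} [CommRing R] [Algebra k R] [HopfRep.Comod k A R] (φ : S →ₐ[k] R) : Prop :=
    ∃ (R' : Type u) (_ : CommRing R') (_ : IsDomain R') (_ : IsIntegrallyClosed R') (_ : Algebra k R')
      (_ : HopfRep.Comod k A R') (_ : GLin.IsCoactAlg k A R')
      (S' : Type u) (_ : CommRing S') (_ : IsDomain S') (_ : Algebra k S')
      (_ : HopfRep.Comod k A S') (_ : GLin.IsCoactAlg k A S'),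
      Algebra.FiniteType k R' ∧ Algebra.FiniteType k S' ∧
      ∃ (pR : R' →ₐ[k] R) (pS : S' →ₐ[k] S) (φ' : S' →ₐ[k] R'),
        Function.Surjective pR ∧ Function.Surjective pS ∧ Function.Injective φ' ∧ φ'.toRingHom.QuasiFinite ∧
        (∀ s : R', HopfRep.Comod.coact (k := k) (A := A) (pR s) =
        Algebra.TensorProduct.map pR (AlgHom.id k A) (HopfRep.Comod.coact (k := k) (A := A) s)) ∧
        (∀ s : S', HopfRep.Comod.coact (k := k) (A := A) (pS s) =
        Algebra.TensorProduct.map pS (AlgHom.id k A) (HopfRep.Comod.coact (k := k) (A := A) s)) ∧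
        (∀ s : S', HopfRep.Comod.coact (k := k) (A := A) (φ' s) =
        Algebra.TensorProduct.map φ' (AlgHom.id k A) (HopfRep.Comod.coact (k := k) (A := A) s)) ∧
        pR.comp φ' = φ.comp pS

variable {k : Type u} [Field k] {A : Type u} [CommRing A] [HopfAlgebra k A]

theorem hasThickening_of_subsingleton
    {S : Type u} [CommRing S] [Algebra k S] [HopfRep.Comod k A S]
    {R : Type u} [CommRing R] [Algebra k R] [HopfRep.Comod k A R] (φ : S →ₐ[k] R)
    [Subsingleton R] [Subsingleton S] : HasThickening k A φ := by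
  haveI : Subsingleton (R ⊗[k] A) := Module.subsingleton R _
  haveI : Subsingleton (S ⊗[k] A) := Module.subsingleton S _
  let c : k →ₐ[k] k ⊗[k] A := Algebra.TensorProduct.includeLeft
  have hc : IsCoactHom c := by
    constructor
    · exact Subsingleton.elim _ _
    · exact Subsingleton.elim _ _
  refine ⟨k, inferInstance, inferInstance, inferInstance, inferInstance, comodOfHom c hc, isCoactAlg_comodOfHom c hc,
    k, inferInstance, inferInstance, inferInstance, comodOfHom c hc, isCoactAlg_comodOfHom c hc,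
    inferInstance, inferInstance, Algebra.ofId k R, Algebra.ofId k S, AlgHom.id k k,
    fun r => ⟨0, Subsingleton.elim _ _⟩, fun s => ⟨0, Subsingleton.elim _ _⟩, fun _ _ h => h,
    .of_finite (RingHom.Finite.id k), fun s => Subsingleton.elim _ _, fun s => Subsingleton.elim _ _,
    fun s => ?_, Subsingleton.elim _ _⟩
  rw [Algebra.TensorProduct.map_id]
  rfl

/-- Quasi-finite along a closed subscheme over which the composite is quasi-finite, provided generators of
its ideal come from the base. -/
theorem quasiFiniteAt_of_ker {T P R : Type u} [CommRing T] [CommRing P] [CommRing R] [Algebra T P]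
    [Algebra.FiniteType T P] (p : P →+* R) (hp : Function.Surjective p) (hR : (p.comp (algebraMap T P)).QuasiFinite)
    (g : Set P) (hg : Ideal.span g = RingHom.ker p) (hgT : g ⊆ Set.range (algebraMap T P))
    (q : PrimeSpectrum P) (hq : RingHom.ker p ≤ q.asIdeal) : Algebra.QuasiFiniteAt T q.asIdeal := by
  refine quasiFiniteAt_of_finite_fibre q ?_
  letI := (p.comp (algebraMap T P)).toAlgebra
  haveI : Algebra.QuasiFinite T R := hR
  refine ((Algebra.QuasiFinite.finite_comap_preimage_singleton (S := R)
    (PrimeSpectrum.comap (algebraMap T P) q)).image (PrimeSpectrum.comap p)).subset fun Q hQ => ?_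
  have hle : RingHom.ker p ≤ Q.asIdeal := by
    rw [← hg, Ideal.span_le]
    intro x hx
    obtain ⟨t, rfl⟩ := hgT hx
    show t ∈ Q.asIdeal.comap (algebraMap T P)
    rw [show Q.asIdeal.comap (algebraMap T P) = q.asIdeal.comap (algebraMap T P) from
      congrArg PrimeSpectrum.asIdeal hQ]
    exact hq (hg ▸ Ideal.subset_span hx)
  obtain ⟨Q', hQ'⟩ : Q ∈ Set.range (PrimeSpectrum.comap p) := by
    rw [range_comap_of_surjective _ _ hp]
    exact hle
  exact ⟨Q', by rw [Set.mem_preimage, Set.mem_singleton_iff] at hQ ⊢; rw [← hQ, ← hQ']; rfl, hQ'⟩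

/-- The final localisation. -/
theorem hasThickening_of_away
    {S : Type u} [CommRing S] [Algebra k S] [HopfRep.Comod k A S]
    {R : Type u} [CommRing R] [Algebra k R] [HopfRep.Comod k A R] [GLin.IsCoactAlg k A R] [Nontrivial R]
    (φ : S →ₐ[k] R)
    {P : Type u} [CommRing P] [IsDomain P] [IsIntegrallyClosed P] [Algebra k P] [Algebra.FiniteType k P]
    (cP : P →ₐ[k] P ⊗[k] A) (hcP : IsCoactHom cP) (p : P →ₐ[k] R) (hp : Function.Surjective p)
    (hpe : ∀ x, HopfRep.Comod.coact (k := k) (A := A) (p x) = Algebra.TensorProduct.map p (AlgHom.id k A) (cP x))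
    {T : Type u} [CommRing T] [IsDomain T] [Algebra k T] [Algebra.FiniteType k T]
    [HopfRep.Comod k A T] [GLin.IsCoactAlg k A T] [Algebra T P] [IsScalarTower k T P]
    (hTinj : Function.Injective (algebraMap T P))
    (hTe : ∀ t : T, cP (algebraMap T P t) = Algebra.TensorProduct.map (IsScalarTower.toAlgHom k T P) (AlgHom.id k A)
      (HopfRep.Comod.coact (k := k) (A := A) t))
    (pS : T →ₐ[k] S) (hpSsurj : Function.Surjective pS) (hpS : ∀ t : T, φ (pS t) = p (algebraMap T P t))
    (hpSe : ∀ t : T, HopfRep.Comod.coact (k := k) (A := A) (pS t) =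
      Algebra.TensorProduct.map pS (AlgHom.id k A) (HopfRep.Comod.coact (k := k) (A := A) t))
    (h : P) (hh : cP h = h ⊗ₜ[k] 1) (hph : p h = 1) (hqfh : Algebra.QuasiFinite T (Localization.Away h)) :
    HasThickening k A φ := by
  have hh0 : h ≠ 0 := by
    rintro rfl
    exact one_ne_zero (hph.symm.trans (map_zero p))
  let R' := Localization.Away h
  haveI : IsDomain R' := IsLocalization.isDomain_localization (powers_le_nonZeroDivisors_of_noZeroDivisors hh0)
  haveI : IsIntegrallyClosed R' := isIntegrallyClosed_of_isLocalization R' (Submonoid.powers h)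
    (powers_le_nonZeroDivisors_of_noZeroDivisors hh0)
  haveI : Algebra.FiniteType P R' := IsLocalization.finiteType_of_monoid_fg (Submonoid.powers h) _
  haveI : Algebra.FiniteType k R' := Algebra.FiniteType.trans (S := P) inferInstance inferInstance
  let cR' : R' →ₐ[k] R' ⊗[k] A := awayHom cP hh
  have hcR' : IsCoactHom cR' := isCoactHom_awayHom hcP hh
  have hu : IsUnit (p h) := hph ▸ isUnit_one
  let pR : R' →ₐ[k] R := IsLocalization.Away.liftAlgHom h (f := p) hu
  have hpR : ∀ x : P, pR (algebraMap P R' x) = p x := fun x =>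
    IsLocalization.Away.lift_eq h (g := p.toRingHom) hu x
  let φ' : T →ₐ[k] R' := (IsScalarTower.toAlgHom k P R').comp (IsScalarTower.toAlgHom k T P)
  refine ⟨R', inferInstance, inferInstance, inferInstance, inferInstance, comodOfHom cR' hcR',
    isCoactAlg_comodOfHom cR' hcR', T, inferInstance, inferInstance, inferInstance, inferInstance, inferInstance,
    inferInstance, inferInstance, pR, pS, φ', ?_, hpSsurj, ?_, ?_, ?_, hpSe, ?_, ?_⟩
  · intro y
    obtain ⟨x, rfl⟩ := hp y
    exact ⟨algebraMap P R' x, hpR x⟩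
  · exact (IsLocalization.injective R' (powers_le_nonZeroDivisors_of_noZeroDivisors hh0)).comp hTinj
  · rw [show φ'.toRingHom = algebraMap T R' from
      RingHom.ext fun t => (IsScalarTower.algebraMap_apply T P R' t).symm]
    exact RingHom.quasiFinite_algebraMap.mpr hqfh
  · refine AlgHom.congr_fun (away_algHom_ext ((GLin.coactAlgHom k A R).comp pR)
      ((Algebra.TensorProduct.map pR (AlgHom.id k A)).comp cR') (AlgHom.ext fun x => ?_))
    show HopfRep.Comod.coact (k := k) (A := A) (pR (algebraMap P R' x)) =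
      Algebra.TensorProduct.map pR (AlgHom.id k A) (cR' (algebraMap P R' x))
    rw [hpR, hpe, show cR' (algebraMap P R' x) =
      Algebra.TensorProduct.map (IsScalarTower.toAlgHom k P R') (AlgHom.id k A) (cP x) from
        (AlgHom.congr_fun (awayHom_comp cP hh) x).symm,
      ← AlgHom.comp_apply (Algebra.TensorProduct.map pR (AlgHom.id k A)), ← Algebra.TensorProduct.map_comp,
      show pR.comp (IsScalarTower.toAlgHom k P R') = p from AlgHom.ext hpR, AlgHom.id_comp]
  · intro t
    show cR' (algebraMap P R' (algebraMap T P t)) =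
      Algebra.TensorProduct.map φ' (AlgHom.id k A) (HopfRep.Comod.coact (k := k) (A := A) t)
    rw [show cR' (algebraMap P R' (algebraMap T P t)) =
      Algebra.TensorProduct.map (IsScalarTower.toAlgHom k P R') (AlgHom.id k A) (cP (algebraMap T P t)) from
        (AlgHom.congr_fun (awayHom_comp cP hh) _).symm,
      hTe, ← AlgHom.comp_apply, ← Algebra.TensorProduct.map_comp, AlgHom.id_comp]
  · exact AlgHom.ext fun t => (hpR _).trans (hpS t).symm

theorem hasThickening [IsAlgClosed k] [Algebra.FiniteType k A] [_root_.IsReduced A]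
    {α : A →ₗ[k] k} (hα : ComodLib.IsIntegral k α) (h1 : α 1 = 1)
    {S : Type u} [CommRing S] [Algebra k S] [Algebra.FiniteType k S] [HopfRep.Comod k A S] [GLin.IsCoactAlg k A S]
    {R : Type u} [CommRing R] [Algebra k R] [Algebra.FiniteType k R] [HopfRep.Comod k A R] [GLin.IsCoactAlg k A R]
    (φ : S →ₐ[k] R) (hφqf : φ.toRingHom.QuasiFinite) (hinj : Function.Injective φ)
    (hequiv : ∀ s : S, HopfRep.Comod.coact (k := k) (A := A) (φ s) =
      Algebra.TensorProduct.map φ (AlgHom.id k A) (HopfRep.Comod.coact (k := k) (A := A) s))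
    [Nontrivial R] : HasThickening k A φ := by
  classical
  obtain ⟨sR, hsR⟩ := (Algebra.FiniteType.out : (⊤ : Subalgebra k R).FG)
  obtain ⟨sS, hsS⟩ := (Algebra.FiniteType.out : (⊤ : Subalgebra k S).FG)
  obtain ⟨W, hWf, hsW, hW⟩ := ComodLib.exists_finite_subcomod_le (k := k) (C := A) (V := R)
    (s := (sR : Set R) ∪ φ '' (sS : Set S)) (sR.finite_toSet.union (sS.finite_toSet.image _))
  let cR : HopfRep.Comod k A R := inferInstance
  let cW : HopfRep.Comod k A W := ComodSub.Comod.restr cR W hW
  let n := Module.finrank k W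
  let b : Module.Basis (Fin n) k W := Module.finBasis k W
  let M := @ComodLib.matrixOf k _ A _ _ _ (Fin n) W _ _ cW b
  have hM : ComodLib.IsComodMatrix k M := @ComodLib.isComodMatrix_matrixOf k _ A _ _ _ (Fin n) _ _ W _ _ cW b
  let r : Fin n → R := fun i => (b i : R)
  have hr : ∀ i, GLin.coactAlgHom k A R (r i) = ∑ j, r j ⊗ₜ[k] M j i := by
    intro i
    refine (ComodSub.restr_coact_coe cR W hW (b i)).symm.trans ?_
    rw [@ComodLib.coact_matrixOf k _ A _ _ _ (Fin n) _ _ W _ _ cW b i, map_sum]
    rfl
  -- the polynomial ring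
  let P := MvPolynomial (Fin n) k
  let cP : P →ₐ[k] P ⊗[k] A := polyHom M
  have hcP : IsCoactHom cP := isCoactHom_polyHom hM
  letI iP : HopfRep.Comod k A P := comodOfHom cP hcP
  haveI : GLin.IsCoactAlg k A P := isCoactAlg_comodOfHom cP hcP
  let p : P →ₐ[k] R := MvPolynomial.aeval r
  have hpe : ∀ x, HopfRep.Comod.coact (k := k) (A := A) (p x) =
      Algebra.TensorProduct.map p (AlgHom.id k A) (cP x) := fun x =>
    AlgHom.congr_fun (map_aeval_polyHom (GLin.coactAlgHom k A R) M r hr) x
  have hpc : Hoch.IsComodHom A p.toLinearMap := LinearMap.ext hpe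
  have hφc : Hoch.IsComodHom A φ.toLinearMap := LinearMap.ext hequiv
  let L : W →ₗ[k] P := b.constr k fun i => MvPolynomial.X i
  have hL : ∀ w : W, p (L w) = (w : R) := by
    intro w
    refine LinearMap.congr_fun (b.ext (f₁ := p.toLinearMap ∘ₗ L) (f₂ := W.subtype) fun i => ?_) w
    show p (L (b i)) = r i
    rw [Module.Basis.constr_basis]
    exact MvPolynomial.aeval_X r i
  have hp : Function.Surjective p := by
    rw [← AlgHom.range_eq_top, eq_top_iff, ← hsR]
    exact Algebra.adjoin_le fun x hx => ⟨L ⟨x, hsW (Or.inl hx)⟩, hL _⟩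
  -- the kernel
  let I : Ideal P := RingHom.ker p
  have hI : HopfRep.IsSubcomod (k := k) (A := A) (I.restrictScalars k) := by
    have := ComodLib.isSubcomod_ker (C := A) hpc
    exact fun x hx => this x hx
  obtain ⟨gI, hgI⟩ := (IsNoetherian.noetherian I : I.FG)
  obtain ⟨U, hUf, hgU, hU⟩ := ComodLib.exists_finite_subcomod_le (k := k) (C := A) (V := P) (s := (gI : Set P))
    gI.finite_toSet
  let F : Submodule k P := U ⊓ I.restrictScalars k
  have hFs : HopfRep.IsSubcomod (k := k) (A := A) F := ComodLib.isSubcomod_inf hU hI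
  haveI : Module.Finite k F := Submodule.finiteDimensional_inf_left U _
  let X1 : Submodule k P := Submodule.span k (Set.range MvPolynomial.X)
  haveI : Module.Finite k X1 := Module.Finite.span_of_finite k (Set.finite_range _)
  have hX1 : HopfRep.IsSubcomod (k := k) (A := A) X1 := by
    intro x hx
    induction hx using Submodule.span_induction with
    | mem x hx =>
      obtain ⟨i, rfl⟩ := hx
      rw [show HopfRep.Comod.coact (k := k) (A := A) (MvPolynomial.X i : P) = ∑ j, MvPolynomial.X j ⊗ₜ[k] M j i from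
        MvPolynomial.aeval_X _ i]
      exact Submodule.sum_mem _ fun j _ =>
        ⟨(⟨MvPolynomial.X j, Submodule.subset_span ⟨j, rfl⟩⟩ : X1) ⊗ₜ[k] M j i, rfl⟩
    | zero => simp
    | add a c _ _ ha hc => rw [map_add]; exact add_mem ha hc
    | smul c a _ ha => rw [map_smul]; exact Submodule.smul_mem _ c ha
  let N : Submodule k P := X1 ⊓ (LinearMap.range φ.toLinearMap).comap p.toLinearMap
  have hNs : HopfRep.IsSubcomod (k := k) (A := A) N :=
    ComodLib.isSubcomod_inf hX1 (ComodLib.isSubcomod_comap hpc (ComodLib.isSubcomod_range hφc))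
  haveI : Module.Finite k N := Submodule.finiteDimensional_inf_left X1 _
  -- the stable subalgebra
  obtain ⟨G, hG⟩ := (Module.Finite.iff_fg.mp inferInstance : (N ⊔ F).FG)
  let T : Subalgebra k P := Algebra.adjoin k ((N ⊔ F : Submodule k P) : Set P)
  have hT : ∀ x ∈ T, cP x ∈ (Algebra.TensorProduct.map T.val (AlgHom.id k A)).range := by
    refine adjoin_stable cP _ fun x hx => ?_
    obtain ⟨z, hz⟩ := ComodLib.isSubcomod_sup hNs hFs x hx
    rw [show cP x = _ from hz.symm]
    clear hz
    induction z using TensorProduct.induction_on with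
    | zero => simp
    | tmul y a => exact ⟨(⟨y.1, Algebra.subset_adjoin y.2⟩ : T) ⊗ₜ[k] a, rfl⟩
    | add u v hu hv => rw [map_add]; exact add_mem hu hv
  haveI hTft : Algebra.FiniteType k T := by
    refine (Subalgebra.fg_iff_finiteType T).mp ⟨G, ?_⟩
    show _ = Algebra.adjoin k ((N ⊔ F : Submodule k P) : Set P)
    rw [← hG, Algebra.adjoin_span]
  let cT : T →ₐ[k] T ⊗[k] A := subHom cP T hT
  have hcT : IsCoactHom cT := hcP.of_injective (Subtype.val_injective (p := (· ∈ T))) (map_val_subHom cP T hT)
  letI iT : HopfRep.Comod k A T := comodOfHom cT hcT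
  haveI : GLin.IsCoactAlg k A T := isCoactAlg_comodOfHom cT hcT
  have hTφ : T ≤ φ.range.comap p := by
    refine Algebra.adjoin_le fun x hx => ?_
    obtain ⟨y, hy, z, hz, rfl⟩ := Submodule.mem_sup.mp hx
    obtain ⟨s, hs⟩ := hy.2
    refine ⟨s, ?_⟩
    show φ s = p (y + z)
    rw [map_add, show p z = 0 from hz.2, add_zero]
    exact hs
  let pS : T →ₐ[k] S := (AlgEquiv.ofInjective φ hinj).symm.toAlgHom.comp
    ((p.comp T.val).codRestrict φ.range fun t => hTφ t.2)
  have hpS : ∀ t : T, φ (pS t) = p t := fun t =>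
    congrArg Subtype.val ((AlgEquiv.ofInjective φ hinj).apply_symm_apply ⟨p t, hTφ t.2⟩)
  have hpSsurj : Function.Surjective pS := by
    rw [← AlgHom.range_eq_top, eq_top_iff, ← hsS]
    refine Algebra.adjoin_le fun s hs => ?_
    let w : W := ⟨φ s, hsW (Or.inr ⟨s, hs, rfl⟩)⟩
    have hw : L w ∈ N := by
      refine ⟨?_, s, (hL w).symm⟩
      show L w ∈ X1
      rw [Module.Basis.constr_apply_fintype]
      exact Submodule.sum_mem _ fun i _ => Submodule.smul_mem _ _ (Submodule.subset_span ⟨i, rfl⟩)
    exact ⟨⟨L w, Algebra.subset_adjoin (Submodule.mem_sup_left hw)⟩, hinj ((hpS _).trans (hL w))⟩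
  have hTe : ∀ t : T, HopfRep.Comod.coact (k := k) (A := A) (t : P) =
      Algebra.TensorProduct.map T.val (AlgHom.id k A) (cT t) := fun t =>
    (AlgHom.congr_fun (map_val_subHom cP T hT) t).symm
  have hpSe : ∀ t : T, HopfRep.Comod.coact (k := k) (A := A) (pS t) =
      Algebra.TensorProduct.map pS (AlgHom.id k A) (cT t) := by
    intro t
    have hinj' : Function.Injective (Algebra.TensorProduct.map φ (AlgHom.id k A)) :=
      Module.Flat.rTensor_preserves_injective_linearMap (M := A) φ.toLinearMap hinj
    apply hinj'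
    rw [← hequiv, hpS, hpe, show cP (t : P) = _ from hTe t]
    show ((Algebra.TensorProduct.map p (AlgHom.id k A)).comp (Algebra.TensorProduct.map T.val (AlgHom.id k A))) (cT t) =
      ((Algebra.TensorProduct.map φ (AlgHom.id k A)).comp (Algebra.TensorProduct.map pS (AlgHom.id k A))) (cT t)
    rw [← Algebra.TensorProduct.map_comp, ← Algebra.TensorProduct.map_comp,
      show φ.comp pS = p.comp T.val from AlgHom.ext hpS]
  -- quasi-finiteness along I
  haveI : Algebra.FiniteType T P := Algebra.FiniteType.of_restrictScalars_finiteType k T P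
  have hqfR : ((p : P →+* R).comp (algebraMap T P)).QuasiFinite := by
    rw [show (p : P →+* R).comp (algebraMap T P) = φ.toRingHom.comp pS.toRingHom from
      RingHom.ext fun t => (hpS t).symm]
    exact RingHom.QuasiFinite.comp hφqf (.of_finite (RingHom.Finite.of_surjective pS.toRingHom hpSsurj))
  have hqf : ∀ q : PrimeSpectrum P, I ≤ q.asIdeal → Algebra.QuasiFiniteAt T q.asIdeal :=
    quasiFiniteAt_of_ker (p : P →+* R) hp hqfR (gI : Set P) hgI fun g hg =>
      ⟨⟨g, Algebra.subset_adjoin
        (Submodule.mem_sup_right ⟨hgU hg, show g ∈ I from hgI ▸ Ideal.subset_span hg⟩)⟩, rfl⟩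
  have hval : IsScalarTower.toAlgHom k T P = T.val := AlgHom.ext fun _ => rfl
  have hTe' : ∀ t : T, HopfRep.Comod.coact (k := k) (A := A) (algebraMap T P t) =
      Algebra.TensorProduct.map (IsScalarTower.toAlgHom k T P) (AlgHom.id k A)
        (HopfRep.Comod.coact (k := k) (A := A) t) := by
    intro t
    rw [hval]
    exact hTe t
  obtain ⟨h, hh, hhI, hqfh⟩ := exists_invariant_quasiFinite (k := k) (A := A) hα h1 (T := T) (P := P)
    hTe' I hI hqf
  have hph : p h = 1 := by
    rw [← sub_eq_zero, ← map_one p, ← map_sub]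
    exact hhI
  haveI : IsIntegrallyClosed P := inferInstance
  haveI : IsDomain T := inferInstance
  have hinjT : Function.Injective (algebraMap T P) := Subtype.val_injective
  have hpS' : ∀ t : T, φ (pS t) = p (algebraMap T P t) := hpS
  exact hasThickening_of_away (k := k) (A := A) φ cP hcP p hp hpe (T := T) hinjT hTe' pS hpSsurj hpS' hpSe h hh hph hqfh

end Groth.Agent.GLinThicken
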