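import Groth.Agent.ComodLib.StableLocus
import Groth.Agent.ComodLib.CartierChar0
import Groth.Agent.GLinThicken.Basic
import Mathlib.RingTheory.RingHom.QuasiFinite

/-!
# An invariant cutting out an open stable quasi-finite neighbourhood
-/

set_option autoImplicit false
set_option linter.style.haveILetI false

universe u

open TensorProduct WithConv

namespace Groth.Agent.GLinThicken

section CommAlg

variable {T P : Type u} [CommRing T] [CommRing P] [Algebra T P]

theorem quasiFiniteAt_comap (σ : P ≃+* P) (τ : T ≃+* T)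
    (hστ : ∀ t, σ (algebraMap T P t) = algebraMap T P (τ t))
    (q : Ideal P) [q.IsPrime] [Algebra.QuasiFiniteAt T q] :
    Algebra.QuasiFiniteAt T (q.comap (σ : P →+* P)) := by
  set q2 := q.comap (σ : P →+* P) with hq2
  have hq : q = q2.comap (σ.symm : P →+* P) := by
    ext x
    show x ∈ q ↔ σ (σ.symm x) ∈ q
    rw [RingEquiv.apply_symm_apply]
  let e := Localization.localRingHom q q2 (σ.symm : P →+* P) hq
  have he : Function.Surjective e :=
    (RingHom.surjectiveOnStalks_of_surjective σ.symm.surjective).localRingHom_surjective _ _ hq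
  have h1 : (algebraMap T (Localization.AtPrime q2)) =
      e.comp ((algebraMap T (Localization.AtPrime q)).comp (τ : T →+* T)) := by
    refine RingHom.ext fun t => ?_
    show _ = e (algebraMap T (Localization.AtPrime q) (τ t))
    rw [IsScalarTower.algebraMap_apply T P (Localization.AtPrime q),
      IsScalarTower.algebraMap_apply T P (Localization.AtPrime q2), ← hστ]
    simp [e, Localization.localRingHom_to_map]
  have h2 : (algebraMap T (Localization.AtPrime q2)).QuasiFinite := by
    rw [h1]
    refine RingHom.QuasiFinite.comp (.of_finite (RingHom.Finite.of_surjective e he)) ?_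
    refine RingHom.QuasiFinite.comp (RingHom.quasiFinite_algebraMap.mpr ‹_›) ?_
    exact .of_finite (RingHom.Finite.of_surjective (τ : T →+* T) τ.surjective)
  exact RingHom.quasiFinite_algebraMap.mp h2

theorem quasiFinite_of_forall_quasiFiniteAt [Algebra.FiniteType T P]
    (h : ∀ q : PrimeSpectrum P, Algebra.QuasiFiniteAt T q.asIdeal) : Algebra.QuasiFinite T P := by
  refine Algebra.QuasiFinite.iff_finite_comap_preimage_singleton.mpr fun p => ?_
  have hc : CompactSpace ↥(PrimeSpectrum.comap (algebraMap T P) ⁻¹' {p}) :=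
    (PrimeSpectrum.preimageHomeomorphFiber T P p).symm.compactSpace
  have hd : DiscreteTopology ↥(PrimeSpectrum.comap (algebraMap T P) ⁻¹' {p}) := by
    refine discreteTopology_iff_isOpen_singleton.mpr fun q => ?_
    haveI : q.1.asIdeal.LiesOver p.asIdeal := ⟨(congrArg PrimeSpectrum.asIdeal q.2).symm⟩
    haveI := h q.1
    obtain ⟨s, hs, H⟩ := Ideal.exists_not_mem_forall_mem_of_ne_of_liesOver p.asIdeal q.1.asIdeal
    refine ⟨(PrimeSpectrum.basicOpen s : Set _), (PrimeSpectrum.basicOpen s).isOpen, ?_⟩
    ext x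
    refine ⟨fun hx => ?_, ?_⟩
    · haveI : x.1.asIdeal.LiesOver p.asIdeal := ⟨(congrArg PrimeSpectrum.asIdeal x.2).symm⟩
      by_contra hne
      exact hx (H x.1.asIdeal inferInstance (fun e => hne (Subtype.ext (PrimeSpectrum.ext e))) inferInstance)
    · rintro rfl
      exact hs
  exact Set.finite_coe_iff.mp (finite_of_compact_of_discrete)

theorem quasiFinite_away [Algebra.FiniteType T P] {h : P}
    (hq : ∀ q : PrimeSpectrum P, h ∉ q.asIdeal → Algebra.QuasiFiniteAt T q.asIdeal) :
    Algebra.QuasiFinite T (Localization.Away h) := by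
  haveI : Algebra.FiniteType P (Localization.Away h) := IsLocalization.finiteType_of_monoid_fg (Submonoid.powers h) _
  haveI : Algebra.FiniteType T (Localization.Away h) := Algebra.FiniteType.trans (S := P) inferInstance inferInstance
  refine quasiFinite_of_forall_quasiFiniteAt fun Q => ?_
  let q : PrimeSpectrum P := PrimeSpectrum.comap (algebraMap P (Localization.Away h)) Q
  haveI := hq q fun hh => Q.isPrime.ne_top (Ideal.eq_top_of_isUnit_mem _ hh (IsLocalization.Away.algebraMap_isUnit h))
  exact Algebra.QuasiFiniteAt.of_surjectiveOnStalks (S := P) q.asIdeal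
    (IsScalarTower.toAlgHom T P (Localization.Away h))
    (RingHom.surjectiveOnStalks_of_isLocalization (Submonoid.powers h) _) Q.asIdeal rfl

theorem exists_ideal_nonQuasiFinite [Algebra.FiniteType T P] :
    ∃ J : Ideal P, (∀ q : PrimeSpectrum P, J ≤ q.asIdeal ↔ ¬ Algebra.QuasiFiniteAt T q.asIdeal) ∧
      ∀ u : P, (∀ q : PrimeSpectrum P, ¬ Algebra.QuasiFiniteAt T q.asIdeal → u ∈ q.asIdeal) → u ∈ J := by
  have hZ : IsClosed {q : PrimeSpectrum P | ¬ Algebra.QuasiFiniteAt T q.asIdeal} :=
    ComodLib.isOpen_quasiFiniteAt.isClosed_compl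
  refine ⟨PrimeSpectrum.vanishingIdeal {q : PrimeSpectrum P | ¬ Algebra.QuasiFiniteAt T q.asIdeal},
    fun q => ?_, fun u hu => (PrimeSpectrum.mem_vanishingIdeal _ _).mpr fun q hq => hu q hq⟩
  refine ⟨fun hle => ?_, fun hq u hu => (PrimeSpectrum.mem_vanishingIdeal _ _).mp hu q hq⟩
  have h1 : q ∈ PrimeSpectrum.zeroLocus
      (PrimeSpectrum.vanishingIdeal {q : PrimeSpectrum P | ¬ Algebra.QuasiFiniteAt T q.asIdeal} : Set P) := hle
  rwa [PrimeSpectrum.zeroLocus_vanishingIdeal_eq_closure, hZ.closure_eq] at h1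

end CommAlg

section Equivariant

variable {k : Type u} [Field k] {A : Type u} [CommRing A] [HopfAlgebra k A]

/-- The action of a rational point by an algebra automorphism. -/
noncomputable def actEquiv {R : Type u} [CommRing R] [Algebra k R] [HopfRep.Comod k A R] [GLin.IsCoactAlg k A R]
    (g : A →ₐ[k] k) : R ≃+* R where
  toFun := HopfRep.Comod.act k A R g
  invFun := HopfRep.Comod.act k A R (toConv g)⁻¹.ofConv
  left_inv := fun x => by
    have e := ComodLib.actF_convMul (V := R) (toConv ((toConv g)⁻¹).ofConv.toLinearMap) (toConv g.toLinearMap) x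
    refine e.symm.trans ?_
    refine Eq.trans (congrArg (fun φ : A →ₗ[k] k => ComodLib.actF (V := R) φ x) ?_) (ComodLib.actF_counit x)
    exact congrArg (fun a : WithConv (A →ₐ[k] k) => a.ofConv.toLinearMap) (inv_mul_cancel (toConv g))
  right_inv := fun x => by
    have e := ComodLib.actF_convMul (V := R) (toConv g.toLinearMap) (toConv ((toConv g)⁻¹).ofConv.toLinearMap) x
    refine e.symm.trans ?_
    refine Eq.trans (congrArg (fun φ : A →ₗ[k] k => ComodLib.actF (V := R) φ x) ?_) (ComodLib.actF_counit x)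
    exact congrArg (fun a : WithConv (A →ₐ[k] k) => a.ofConv.toLinearMap) (mul_inv_cancel (toConv g))
  map_mul' := ComodLib.act_mul g
  map_add' := map_add _

theorem exists_invariant_quasiFinite [IsAlgClosed k] [Algebra.FiniteType k A] [_root_.IsReduced A]
    {α : A →ₗ[k] k} (hα : ComodLib.IsIntegral k α) (h1 : α 1 = 1)
    {T : Type u} [CommRing T] [Algebra k T] [HopfRep.Comod k A T] [GLin.IsCoactAlg k A T]
    {P : Type u} [CommRing P] [Algebra k P] [HopfRep.Comod k A P] [GLin.IsCoactAlg k A P]
    [Algebra T P] [IsScalarTower k T P] [Algebra.FiniteType T P]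
    (heq : ∀ t : T, HopfRep.Comod.coact (k := k) (A := A) (algebraMap T P t) =
      Algebra.TensorProduct.map (IsScalarTower.toAlgHom k T P) (AlgHom.id k A) (HopfRep.Comod.coact (k := k) (A := A) t))
    (I : Ideal P) (hI : HopfRep.IsSubcomod (k := k) (A := A) (I.restrictScalars k))
    (hqf : ∀ q : PrimeSpectrum P, I ≤ q.asIdeal → Algebra.QuasiFiniteAt T q.asIdeal) :
    ∃ h : P, HopfRep.Comod.coact (k := k) (A := A) h = h ⊗ₜ[k] 1 ∧ h - 1 ∈ I ∧
      Algebra.QuasiFinite T (Localization.Away h) := by
  obtain ⟨J, hJ, hJmem⟩ := exists_ideal_nonQuasiFinite (T := T) (P := P)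
  have hστ : ∀ (g : A →ₐ[k] k) (t : T),
      actEquiv g (algebraMap T P t) = algebraMap T P (actEquiv (R := T) g t) := by
    intro g t
    show ComodLib.slice g.toLinearMap (HopfRep.Comod.coact (k := k) (A := A) (algebraMap T P t)) =
      algebraMap T P (ComodLib.slice g.toLinearMap (HopfRep.Comod.coact (k := k) (A := A) t))
    rw [heq]
    exact ComodLib.slice_rTensor _ (IsScalarTower.toAlgHom k T P).toLinearMap _
  have hJsub : HopfRep.IsSubcomod (k := k) (A := A) (J.restrictScalars k) := by
    refine ComodLib.isSubcomod_of_forall_act fun g u hu => hJmem _ fun q hq => ?_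
    show u ∈ q.asIdeal.comap (actEquiv (R := P) g : P →+* P)
    refine (hJ ⟨q.asIdeal.comap (actEquiv (R := P) g : P →+* P), inferInstance⟩).mpr ?_ hu
    intro hqf2
    haveI : Algebra.QuasiFiniteAt T (q.asIdeal.comap (actEquiv (R := P) g : P →+* P)) := hqf2
    have h3 := quasiFiniteAt_comap (actEquiv (R := P) g).symm (actEquiv (R := T) g).symm (fun t => by
      rw [RingEquiv.symm_apply_eq, hστ, RingEquiv.apply_symm_apply])
      (q.asIdeal.comap (actEquiv (R := P) g : P →+* P))
    refine hq ?_
    convert h3 using 2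
    ext x
    show x ∈ q.asIdeal ↔ actEquiv (R := P) g ((actEquiv (R := P) g).symm x) ∈ q.asIdeal
    rw [RingEquiv.apply_symm_apply]
  have htop : I ⊔ J = ⊤ := by
    by_contra hne
    obtain ⟨m, hm, hle⟩ := Ideal.exists_le_maximal _ hne
    exact (hJ ⟨m, hm.isPrime⟩).mp (le_sup_right.trans hle) (hqf ⟨m, hm.isPrime⟩ (le_sup_left.trans hle))
  obtain ⟨a, ha, b, hb, hab⟩ := Submodule.mem_sup.mp ((Ideal.eq_top_iff_one _).mp htop)
  have hr := congrArg (ComodLib.rey α : P →ₗ[k] P) hab
  rw [map_add, ComodLib.rey_of_fixed h1 (show (1 : P) ∈ HopfRep.fixedPts k A P from (GLin.invariants k A P).one_mem)] at hr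
  refine ⟨ComodLib.rey α b, ComodLib.rey_mem_fixedPts hα b, ?_, quasiFinite_away fun q hq => ?_⟩
  · rw [← hr, show ComodLib.rey α b - (ComodLib.rey α a + ComodLib.rey α b) = -ComodLib.rey α a by ring]
    exact I.neg_mem (ComodLib.rey_mem_of_isSubcomod (U := I.restrictScalars k) hI ha)
  · by_contra hn
    exact hq ((hJ q).mpr hn (ComodLib.rey_mem_of_isSubcomod (U := J.restrictScalars k) hJsub hb))

end Equivariant

end Groth.Agent.GLinThicken
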